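import Groth.Agent.IntElemLib.Units

/-!
# Integrality of global functions over a base field
-/

set_option autoImplicit false
set_option backward.isDefEq.respectTransparency false

universe u

open Polynomial CategoryTheory AlgebraicGeometry Opposite

namespace Groth.Agent.IntElemLib

theorem finiteType_res (k : Type u) [Field k] {X : Scheme.{u}} (a : X ⟶ Spec (CommRingCat.of k))
    [LocallyOfFiniteType a] {U : X.Opens} (hU : IsAffineOpen U) :
    ((X.presheaf.map (homOfLE le_top : U ⟶ ⊤).op).hom.comp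
      (a.appTop.hom.comp (Scheme.ΓSpecIso (CommRingCat.of k)).inv.hom)).FiniteType := by
  have h1 := a.finiteType_appLE (isAffineOpen_top (Spec (CommRingCat.of k))) hU (U := ⊤) (V := U) le_top
  have h2 := h1.comp (RingHom.FiniteType.of_surjective (Scheme.ΓSpecIso (CommRingCat.of k)).inv.hom
    (Scheme.ΓSpecIso (CommRingCat.of k)).symm.commRingCatIsoToRingEquiv.surjective)
  exact h2

theorem isIntegralElem_of_units (k : Type u) [Field k] {X : Scheme.{u}} [IsReduced X] [ConnectedSpace X]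
    (a : X ⟶ Spec (CommRingCat.of k)) [LocallyOfFiniteType a] (x : Γ(X, ⊤))
    (h : {n | ¬ IsUnit ((E n).eval₂ (Int.castRingHom Γ(X, ⊤)) x)}.Finite) :
    (a.appTop.hom.comp (Scheme.ΓSpecIso (CommRingCat.of k)).inv.hom).IsIntegralElem x := by
  classical
  set F := a.appTop.hom.comp (Scheme.ΓSpecIso (CommRingCat.of k)).inv.hom with hF
  let Z : Polynomial k → Set X := fun π => ((X.basicOpen (π.eval₂ F x) : X.Opens) : Set X)ᶜ
  have hloc : ∀ y : X, ∃ U : X.Opens, y ∈ U ∧ ∃ s : Finset (Polynomial k),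
      (∀ π ∈ s, π.Monic ∧ Irreducible π) ∧ (∀ z ∈ U, ∃ π ∈ s, z ∈ Z π) ∧
      ∀ π π' : Polynomial k, IsCoprime π π' → ∀ z ∈ U, z ∈ Z π → z ∉ Z π' := by
    intro y
    obtain ⟨U, hU, hyU, -⟩ := exists_isAffineOpen_mem_and_subset (X := X) (x := y) (U := ⊤) trivial
    let res : Γ(X, ⊤) →+* Γ(X, U) := (X.presheaf.map (homOfLE le_top : U ⟶ ⊤).op).hom
    have hft : (res.comp F).FiniteType := finiteType_res k a hU
    letI : Algebra k Γ(X, U) := (res.comp F).toAlgebra
    haveI : Algebra.FiniteType k Γ(X, U) := hft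
    obtain ⟨s, hs, hcov⟩ := exists_monic_irreducible (k := k) (res x) (h.subset fun n hn hu => hn (by
      have := hu.map res
      rwa [hom_eval₂, show res.comp (Int.castRingHom Γ(X, ⊤)) = Int.castRingHom Γ(X, U) from
        RingHom.ext_int _ _] at this))
    have hev : ∀ π : Polynomial k, res (π.eval₂ F x) = aeval (res x) π := fun π => by
      rw [hom_eval₂]; rfl
    have hmem : ∀ (π : Polynomial k) (z : X) (hz : z ∈ U),
        z ∈ Z π ↔ aeval (res x) π ∈ (hU.primeIdealOf ⟨z, hz⟩).asIdeal := by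
      intro π z hz
      rw [← hev]
      show z ∉ X.basicOpen (π.eval₂ F x) ↔ _
      have e1 : z ∈ X.basicOpen (π.eval₂ F x) ↔ z ∈ X.basicOpen (res (π.eval₂ F x)) := by
        rw [Scheme.basicOpen_res]
        exact ⟨fun h => TopologicalSpace.Opens.mem_inf.2 ⟨hz, h⟩, fun h => (TopologicalSpace.Opens.mem_inf.1 h).2⟩
      have e2 : hU.primeIdealOf ⟨z, hz⟩ ∈ hU.fromSpec ⁻¹ᵁ X.basicOpen (res (π.eval₂ F x)) ↔
          z ∈ X.basicOpen (res (π.eval₂ F x)) := by
        show hU.fromSpec.base (hU.primeIdealOf ⟨z, hz⟩) ∈ X.basicOpen (res (π.eval₂ F x)) ↔ _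
        rw [hU.fromSpec_primeIdealOf]
      rw [e1, ← e2, hU.fromSpec_preimage_basicOpen]
      exact not_not
    refine ⟨U, hyU, s, hs, fun z hz => ?_, fun π π' hc z hz hπ hπ' => ?_⟩
    · obtain ⟨π, hπ, hπm⟩ := hcov (hU.primeIdealOf ⟨z, hz⟩)
      exact ⟨π, hπ, (hmem π z hz).2 hπm⟩
    · obtain ⟨p, q, hpq⟩ := hc
      apply (hU.primeIdealOf ⟨z, hz⟩).isPrime.ne_top
      rw [Ideal.eq_top_iff_one, ← map_one (aeval (R := k) (res x)), ← hpq, map_add, map_mul, map_mul]
      exact add_mem (Ideal.mul_mem_left _ _ ((hmem π z hz).1 hπ)) (Ideal.mul_mem_left _ _ ((hmem π' z hz).1 hπ'))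
  choose U hyU s hs hcov hdisj using hloc
  obtain ⟨y₀⟩ := (inferInstance : Nonempty X)
  obtain ⟨π, hπs, hπ⟩ := hcov y₀ y₀ (hyU y₀)
  obtain ⟨hπm, hπi⟩ := hs y₀ π hπs
  have hopen : IsOpen (Z π) := by
    rw [isOpen_iff_forall_mem_open]
    intro z hz
    let T := ((s z).erase π)
    refine ⟨(U z : Set X) \ ⋃ π' ∈ T, Z π', fun w hw => ?_, ?_, hyU z, ?_⟩
    · obtain ⟨π', hπ', hwπ'⟩ := hcov z w hw.1
      by_cases he : π' = π
      · exact he ▸ hwπ'
      · exact absurd (Set.mem_iUnion₂.2 ⟨π', Finset.mem_erase.2 ⟨he, hπ'⟩, hwπ'⟩) hw.2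
    · exact (U z).2.sdiff (Set.Finite.isClosed_biUnion T.finite_toSet fun π' _ => (X.basicOpen (π'.eval₂ F x)).2.isClosed_compl)
    · intro hz'
      obtain ⟨π', hπ', hzπ'⟩ := Set.mem_iUnion₂.1 hz'
      obtain ⟨hne, hπ's⟩ := Finset.mem_erase.1 hπ'
      obtain ⟨hm', hi'⟩ := hs z π' hπ's
      refine hdisj z π π' ?_ z (hyU z) hz hzπ'
      refine hπi.coprime_iff_not_dvd.2 fun hd => hne ?_
      exact (Polynomial.eq_of_monic_of_associated hπm hm' (hπi.associated_of_dvd hi' hd)).symm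
  have huniv : Z π = Set.univ :=
    IsClopen.eq_univ ⟨(X.basicOpen _).2.isClosed_compl, hopen⟩ ⟨y₀, hπ⟩
  refine ⟨π, hπm, ?_⟩
  rw [← basicOpen_eq_bot_iff]
  apply TopologicalSpace.Opens.ext
  exact Set.compl_univ_iff.1 huniv

end Groth.Agent.IntElemLib
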