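import Mathlib

/-!
# Algebraicity of global functions detected by units
-/

set_option autoImplicit false

universe u

open Polynomial

namespace Groth.Agent.IntElemLib

/-- Partial products of the test polynomials. -/
noncomputable def P : ℕ → Polynomial ℤ
  | 0 => X
  | n + 1 => P n * (P n + 1)

theorem P_spec (n : ℕ) : (P n).Monic ∧ 0 < (P n).natDegree := by
  induction n with
  | zero => exact ⟨monic_X, by simp [P]⟩
  | succ n ih =>
    have h1 : (P n + 1).Monic := ih.1.add_of_left (by
      rw [degree_one, degree_eq_natDegree ih.1.ne_zero]; exact_mod_cast ih.2)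
    refine ⟨ih.1.mul h1, ?_⟩
    show 0 < (P n * (P n + 1)).natDegree
    rw [ih.1.natDegree_mul h1]; omega

/-- Pairwise coprime monic test polynomials. -/
noncomputable def E (n : ℕ) : Polynomial ℤ := P n + 1

theorem E_monic (n : ℕ) : (E n).Monic := (P_spec n).1.add_of_left (by
  rw [degree_one, degree_eq_natDegree (P_spec n).1.ne_zero]; exact_mod_cast (P_spec n).2)

theorem E_natDegree (n : ℕ) : 0 < (E n).natDegree := by
  rw [E, natDegree_add_eq_left_of_natDegree_lt (by rw [natDegree_one]; exact (P_spec n).2)]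
  exact (P_spec n).2

theorem dvd_P {m n : ℕ} (h : m < n) : E m ∣ P n := by
  induction n with
  | zero => omega
  | succ n ih =>
    rcases Nat.lt_succ_iff_lt_or_eq.1 h with h | rfl
    · exact (ih h).mul_right _
    · exact dvd_mul_left _ _

theorem isCoprime_E {m n : ℕ} (h : m ≠ n) : IsCoprime (E m) (E n) := by
  rcases lt_or_gt_of_ne h with h | h
  · obtain ⟨c, hc⟩ := dvd_P h
    exact ⟨-c, 1, by rw [show E n = P n + 1 from rfl, hc]; ring⟩
  · obtain ⟨c, hc⟩ := dvd_P h
    exact ⟨1, -c, by rw [show E m = P m + 1 from rfl, hc]; ring⟩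

variable {k : Type u} [Field k]

/-- The test polynomials over a field. -/
noncomputable abbrev Ek (k : Type u) [Field k] (n : ℕ) : Polynomial k := (E n).map (Int.castRingHom k)

theorem finite_not_coprime {r : Polynomial k} (hr : r ≠ 0) : {n | ¬ IsCoprime (Ek k n) r}.Finite := by
  classical
  have key : ∀ n, ¬ IsCoprime (Ek k n) r → ∃ π ∈ (UniqueFactorizationMonoid.normalizedFactors r).toFinset, π ∣ Ek k n := by
    intro n hn
    by_contra! h
    refine hn (UniqueFactorizationMonoid.isRelPrime_iff_no_prime_factors ((E_monic n).map _).ne_zero |>.2 ?_).isCoprime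
    intro d hd1 hd2 hd
    obtain ⟨q, hq, hdq⟩ := UniqueFactorizationMonoid.exists_mem_normalizedFactors_of_dvd hr hd.irreducible hd2
    exact h q (Multiset.mem_toFinset.2 hq) ((hdq.dvd_iff_dvd_left).1 hd1)
  choose π hπ hπd using key
  refine Set.Finite.of_finite_image (f := fun n => if h : ¬ IsCoprime (Ek k n) r then π n h else 0) ?_ ?_
  · refine Set.Finite.subset ((UniqueFactorizationMonoid.normalizedFactors r).toFinset.finite_toSet) ?_
    rintro _ ⟨n, hn, rfl⟩
    have hn' : ¬ IsCoprime (Ek k n) r := hn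
    simp only [dif_pos hn']
    exact hπ n hn'
  · intro m hm n hn he
    by_contra hmn
    have hm' : ¬ IsCoprime (Ek k m) r := hm
    have hn' : ¬ IsCoprime (Ek k n) r := hn
    simp only [dif_pos hm', dif_pos hn'] at he
    have hc : IsCoprime (Ek k m) (Ek k n) := (isCoprime_E hmn).map (Polynomial.mapRingHom (Int.castRingHom k))
    have := hc.isUnit_of_dvd' (hπd m hm') (he ▸ hπd n hn')
    exact (UniqueFactorizationMonoid.prime_of_normalized_factor _ (Multiset.mem_toFinset.1 (hπ m hm'))).not_unit this

theorem finite_not_unit {R : Type*} [CommRing R] (F : k →+* R) (x : R) (hx : F.IsIntegralElem x) :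
    {n | ¬ IsUnit ((E n).eval₂ (Int.castRingHom R) x)}.Finite := by
  obtain ⟨r, hr, hrx⟩ := hx
  refine (finite_not_coprime hr.ne_zero).subset fun n hn hc => hn ?_
  obtain ⟨a, b, hab⟩ := hc
  have h := congrArg (fun p => p.eval₂ F x) hab
  simp only [eval₂_add, eval₂_mul, eval₂_one, hrx, mul_zero, add_zero, eval₂_map] at h
  rw [show F.comp (Int.castRingHom k) = Int.castRingHom R from RingHom.ext_int _ _] at h
  exact IsUnit.of_mul_eq_one_right _ h

theorem exists_ne_zero_of_domain {D : Type u} [CommRing D] [IsDomain D] [Algebra k D] [Algebra.FiniteType k D]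
    (x : D) (h : {n | ¬ IsUnit ((E n).eval₂ (Int.castRingHom D) x)}.Finite) :
    ∃ r : Polynomial k, r ≠ 0 ∧ aeval x r = 0 := by
  by_contra! hne
  letI : Algebra (Polynomial k) D := (aeval x : Polynomial k →ₐ[k] D).toRingHom.toAlgebra
  haveI : IsScalarTower k (Polynomial k) D := IsScalarTower.of_algebraMap_eq fun a => (aeval_C x a).symm
  have hinj : Function.Injective (algebraMap (Polynomial k) D) := by
    rw [injective_iff_map_eq_zero]
    intro r hr
    by_contra h0
    exact hne r h0 hr
  haveI : FaithfulSMul (Polynomial k) D := (faithfulSMul_iff_algebraMap_injective _ _).2 hinj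
  haveI : Module.IsTorsionFree (Polynomial k) D := inferInstance
  haveI : Algebra.FiniteType (Polynomial k) D := Algebra.FiniteType.of_restrictScalars_finiteType k _ _
  haveI : Algebra.FinitePresentation (Polynomial k) D := Algebra.FinitePresentation.of_finiteType.1 inferInstance
  have hopen := PrimeSpectrum.isOpenMap_comap_of_hasGoingDown_of_finitePresentation (R := Polynomial k) (S := D)
  have hbot : (⊥ : PrimeSpectrum (Polynomial k)) ∈ Set.range (PrimeSpectrum.comap (algebraMap (Polynomial k) D)) :=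
    ⟨⊥, PrimeSpectrum.ext ((RingHom.ker_eq_comap_bot _).symm.trans ((RingHom.injective_iff_ker_eq_bot _).1 hinj))⟩
  obtain ⟨_, ⟨g, rfl⟩, hg, hsub⟩ := PrimeSpectrum.isTopologicalBasis_basic_opens.exists_subset_of_mem_open hbot hopen.isOpen_range
  have hg0 : g ≠ 0 := fun e => hg (by subst e; exact zero_mem _)
  obtain ⟨n, hn⟩ := Set.Infinite.nonempty (Set.infinite_univ.diff (h.union (finite_not_coprime hg0)))
  simp only [Set.mem_diff, Set.mem_univ, Set.mem_union, Set.mem_setOf_eq, true_and, not_or, not_not] at hn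
  obtain ⟨π, hπ, hπd⟩ := WfDvdMonoid.exists_irreducible_factor (a := Ek k n) (fun hu => by
    have := natDegree_eq_zero_of_isUnit hu
    rw [(E_monic n).natDegree_map] at this
    exact (E_natDegree n).ne' this) ((E_monic n).map _).ne_zero
  haveI : (Ideal.span {π}).IsPrime := (Ideal.span_singleton_prime hπ.ne_zero).2 hπ.prime
  obtain ⟨Q, hQ⟩ := hsub (show g ∉ Ideal.span {π} from fun hgπ => hπ.not_isUnit
    (hn.2.isUnit_of_dvd' hπd (Ideal.mem_span_singleton.1 hgπ)) : (⟨Ideal.span {π}, inferInstance⟩ : PrimeSpectrum _) ∈ _)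
  have hQπ : algebraMap (Polynomial k) D (Ek k n) ∈ Q.asIdeal := by
    have : Ek k n ∈ Ideal.comap (algebraMap (Polynomial k) D) Q.asIdeal := by
      rw [show Ideal.comap (algebraMap (Polynomial k) D) Q.asIdeal = Ideal.span {π} from congrArg PrimeSpectrum.asIdeal hQ]
      exact Ideal.mem_span_singleton.2 hπd
    exact this
  refine Q.isPrime.ne_top (Ideal.eq_top_of_isUnit_mem _ hQπ ?_)
  have e : algebraMap (Polynomial k) D (Ek k n) = (E n).eval₂ (Int.castRingHom D) x := by
    show aeval x ((E n).map (Int.castRingHom k)) = _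
    rw [aeval_def, eval₂_map, show (algebraMap k D).comp (Int.castRingHom k) = Int.castRingHom D from RingHom.ext_int _ _]
  rw [e]
  exact hn.1

theorem exists_monic_irreducible {B : Type u} [CommRing B] [Algebra k B] [Algebra.FiniteType k B]
    (x : B) (h : {n | ¬ IsUnit ((E n).eval₂ (Int.castRingHom B) x)}.Finite) :
    ∃ s : Finset (Polynomial k), (∀ π ∈ s, π.Monic ∧ Irreducible π) ∧
      ∀ p : PrimeSpectrum B, ∃ π ∈ s, aeval x π ∈ p.asIdeal := by
  classical
  haveI : IsNoetherianRing B := Algebra.FiniteType.isNoetherianRing k B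
  have key : ∀ q ∈ minimalPrimes B, ∃ r : Polynomial k, r ≠ 0 ∧ aeval x r ∈ q := by
    intro q hq
    haveI : q.IsPrime := hq.1.1
    haveI : Algebra.FiniteType k (B ⧸ q) := Algebra.FiniteType.of_surjective (Ideal.Quotient.mkₐ k q) Ideal.Quotient.mk_surjective
    obtain ⟨r, hr, hrx⟩ := exists_ne_zero_of_domain (k := k) (Ideal.Quotient.mk q x) (h.subset fun n hn hu => hn (by
      have := hu.map (Ideal.Quotient.mk q)
      rwa [hom_eval₂, show (Ideal.Quotient.mk q).comp (Int.castRingHom B) = Int.castRingHom (B ⧸ q) from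
        RingHom.ext_int _ _] at this))
    refine ⟨r, hr, Ideal.Quotient.eq_zero_iff_mem.1 ?_⟩
    rw [← hrx]
    exact (aeval_algHom_apply (Ideal.Quotient.mkₐ k q) x r).symm
  choose r hr hrq using key
  let s : Finset (Polynomial k) := (minimalPrimes.finite_of_isNoetherianRing B).toFinset.attach.biUnion fun q =>
    (UniqueFactorizationMonoid.normalizedFactors (r q.1 ((minimalPrimes.finite_of_isNoetherianRing B).mem_toFinset.1 q.2))).toFinset
  refine ⟨s, fun π hπ => ?_, fun p => ?_⟩
  · simp only [s, Finset.mem_biUnion, Multiset.mem_toFinset] at hπ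
    obtain ⟨q, -, hπ⟩ := hπ
    refine ⟨?_, UniqueFactorizationMonoid.irreducible_of_normalized_factor _ hπ⟩
    rw [← UniqueFactorizationMonoid.normalize_normalized_factor _ hπ]
    exact Polynomial.monic_normalize (UniqueFactorizationMonoid.irreducible_of_normalized_factor _ hπ).ne_zero
  · obtain ⟨q, hq, hqp⟩ := Ideal.exists_minimalPrimes_le (I := ⊥) (J := p.asIdeal) bot_le
    have hm : aeval x (r q hq) ∈ p.asIdeal := hqp (hrq q hq)
    obtain ⟨u, hu⟩ := UniqueFactorizationMonoid.prod_normalizedFactors (hr q hq)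
    haveI := p.isPrime
    rw [← hu, map_mul, map_multiset_prod, Ideal.IsPrime.mul_mem_iff_mem_or_mem] at hm
    rcases hm with hm | hm
    · rw [Ideal.IsPrime.multiset_prod_mem_iff_exists_mem] at hm
      · obtain ⟨y, hy, hyp⟩ := hm
        obtain ⟨π, hπ, rfl⟩ := Multiset.mem_map.1 hy
        refine ⟨π, ?_, hyp⟩
        simp only [s, Finset.mem_biUnion, Multiset.mem_toFinset]
        exact ⟨⟨q, (minimalPrimes.finite_of_isNoetherianRing B).mem_toFinset.2 hq⟩, Finset.mem_attach _ _, hπ⟩
      · exact p.isPrime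
    · exact absurd (Ideal.eq_top_of_isUnit_mem _ hm (u.isUnit.map (aeval x))) p.isPrime.ne_top
    all_goals exact p.isPrime

end Groth.Agent.IntElemLib
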